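import Cfsg.Agent.Omega.HT.TVS

/-!
# THEOREM TRV (helper147, bb #22530): the abstract setting

`H` acts on the `F₂`-space `W`; `V = ⟨z i⟩` with `z i` independent; `Q` : `C_W(Q) ≤ V`; `QI i` (the image of
`O₂(C_G(z_i))`) is a `2`-group which is trivial on `V`.

**TRV**: if `QI i` contains a transvection of `W`, then it contains one with centre `z i` or `z i + ∑ z j`.

This file: the transvections in the `QI i` (`T`), the three-cycle argument, equivariance, the sums.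
-/

set_option autoImplicit false

namespace Cfsg.Agent.Omega.NO3S.SN2.TRV.Basic

open Module Cfsg.Agent.Omega.TV
open Cfsg.Agent.Omega.TV.Sys (Near rad Big Clo Small)

variable {H : Type*} [Group H] {W : Type*} [AddCommGroup W] [Module (ZMod 2) W]
  {ι : Type*} [Fintype ι] [DecidableEq ι]

/-- The setting of THEOREM TRV. -/
structure Sit (ρ : H →* (W ≃ₗ[ZMod 2] W)) (z : ι → W) (Q : Subgroup H) (QI : ι → Subgroup H) : Prop where
  li : LinearIndependent (ZMod 2) z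
  card : 3 ≤ Fintype.card ι
  z0 : ∀ g, ρ g (∑ i, z i) = ∑ i, z i
  fixV : ∀ w, (∀ q ∈ Q, ρ q w = w) → w ∈ Submodule.span (ZMod 2) (Set.range z)
  Qz : ∀ q ∈ Q, ∀ i, ρ q (z i) = z i
  Ip : ∀ i, IsPGroup 2 (QI i)
  Iz : ∀ i, ∀ q ∈ QI i, ∀ j, ρ q (z j) = z j
  Iconj : ∀ g i j, ρ g (z i) = z j → ∀ q ∈ QI i, g * q * g⁻¹ ∈ QI j
  perm : ∀ g, (∀ v ∈ Submodule.span (ZMod 2) (Set.range z), ρ g v ∈ Submodule.span (ZMod 2) (Set.range z)) →
    ∃ σ : Equiv.Perm ι, ∀ i, ρ g (z i) = z (σ i)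
  ind : ∀ σ : Equiv.Perm ι, ∃ g, ∀ i, ρ g (z i) = z (σ i)
  chain : ∀ A B : Submodule (ZMod 2) W, B ≤ A → (∀ g, ∀ w ∈ A, ρ g w ∈ A) → (∀ g, ∀ w ∈ B, ρ g w ∈ B) →
    ∀ g, (∀ w, ρ g w + w ∈ A) → (∀ w ∈ A, ρ g w + w ∈ B) → (∀ w ∈ B, ρ g w = w) → ∀ w, ρ g w = w
  sy : ∀ D : Submodule (ZMod 2) W, D ≤ Submodule.span (ZMod 2) (Set.range z) → ∑ i, z i ∈ D →
    ∀ A B : Submodule (ZMod 2) W, B ≤ A → (∀ g, (∀ d ∈ D, ρ g d = d) → ∀ w ∈ A, ρ g w ∈ A) →
    (∀ g, (∀ d ∈ D, ρ g d = d) → ∀ w ∈ B, ρ g w ∈ B) →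
    ∀ g, (∀ d ∈ D, ρ g d = d) → (∀ w, ρ g w + w ∈ A) → (∀ w ∈ A, ρ g w + w ∈ B) → (∀ w ∈ B, ρ g w = w) →
    ∀ v ∈ Submodule.span (ZMod 2) (Set.range z), ρ g v ∈ Submodule.span (ZMod 2) (Set.range z)

/-- The orbit of `c`. -/
def orb (ρ : H →* (W ≃ₗ[ZMod 2] W)) (c : W) : Set W := {x | ∃ g, ρ g c = x}

/-- `(φ, c)` is a transvection induced by an element of `QI i`. -/
def T (ρ : H →* (W ≃ₗ[ZMod 2] W)) (QI : ι → Subgroup H) (i : ι) (c : W) (φ : Dual (ZMod 2) W) : Prop :=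
  φ ≠ 0 ∧ φ c = 0 ∧ ∃ b ∈ QI i, ∀ w, ρ b w = w + φ w • c

variable {ρ : H →* (W ≃ₗ[ZMod 2] W)} {z : ι → W} {Q : Subgroup H} {QI : ι → Subgroup H}

theorem T.fn {i : ι} {c : W} {φ : Dual (ZMod 2) W} (h : T ρ QI i c φ) : Fn ρ c φ := by
  obtain ⟨-, h1, b, -, hb⟩ := h
  exact ⟨h1, b, hb⟩

theorem fn_self {b : H} {c : W} {φ : Dual (ZMod 2) W} (hc : c ≠ 0) (h : ∀ w, ρ b w = w + φ w • c) : φ c = 0 := by
  refine z2_ne_one fun e => hc ?_
  have h1 := h c
  rw [e, one_smul, v_add_self] at h1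
  exact (ρ b).map_eq_zero_iff.1 h1

/-- A three-cycle in a `2`-group is impossible. -/
theorem three_cycle {P : Subgroup H} (hP : IsPGroup 2 P) {x : H} (hx : x ∈ P) {a b c : W} (h1 : ρ x a = b)
    (h2 : ρ x b = c) (h3 : ρ x c = a) : a = b := by
  obtain ⟨k, hk⟩ := hP ⟨x, hx⟩
  have hk' : x ^ 2 ^ k = 1 := by
    have := congrArg Subtype.val hk
    simpa using this
  have h4 : ρ (x ^ 3) a = a := by
    rw [pow_succ, pow_two, rmul, rmul, h1, h2, h3]
  have h5 : ∀ n, ρ (x ^ (3 * n)) a = a := by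
    intro n
    induction n with
    | zero => simp
    | succ n ih => rw [mul_add, mul_one, pow_add, rmul, h4, ih]
  have h6 : (2 ^ k) % 3 = 1 ∨ (2 ^ k) % 3 = 2 := by
    have h7 : ¬ 3 ∣ 2 ^ k := by
      intro h8
      have := (Nat.prime_three).dvd_of_dvd_pow h8
      omega
    omega
  rcases h6 with h6 | h6
  · have h8 : 2 ^ k = 3 * (2 ^ k / 3) + 1 := by omega
    rw [h8, pow_add, pow_one] at hk'
    have h9 : ρ (x ^ (3 * (2 ^ k / 3)) * x) a = a := by rw [hk', rone]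
    rw [pow_mul_comm', rmul, h5, h1] at h9
    exact h9.symm
  · have h8 : 2 ^ k + 1 = 3 * (2 ^ k / 3 + 1) := by omega
    have h9 : x ^ (3 * (2 ^ k / 3 + 1)) = x := by rw [← h8, pow_succ, hk', one_mul]
    have h10 := h5 (2 ^ k / 3 + 1)
    rw [h9, h1] at h10
    exact h10.symm

namespace Sit

variable (s : Sit ρ z Q QI)

include s

theorem z_mem (i : ι) : z i ∈ Submodule.span (ZMod 2) (Set.range z) := Submodule.subset_span ⟨i, rfl⟩

theorem z_inj : Function.Injective z := s.li.injective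

theorem z_ne (i : ι) : z i ≠ 0 := s.li.ne_zero i

theorem Iv {i : ι} {q : H} (hq : q ∈ QI i) {v : W} (hv : v ∈ Submodule.span (ZMod 2) (Set.range z)) :
    ρ q v = v := by
  induction hv using Submodule.span_induction with
  | mem x hx =>
    obtain ⟨j, rfl⟩ := hx
    exact s.Iz i q hq j
  | zero => exact map_zero _
  | add x y _ _ hx hy => rw [map_add, hx, hy]
  | smul a x _ hx => rw [map_smul, hx]

/-- a transvection in `QI i` is trivial on `V` -/
theorem T_V {i : ι} {c : W} {φ : Dual (ZMod 2) W} (hc : c ≠ 0) (h : T ρ QI i c φ) {v : W}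
    (hv : v ∈ Submodule.span (ZMod 2) (Set.range z)) : φ v = 0 := by
  obtain ⟨-, -, b, hb, hb'⟩ := h
  refine z2_ne_one fun e => hc ?_
  have h1 := hb' v
  rw [s.Iv hb hv, e, one_smul] at h1
  simpa using h1

theorem T_conj {i j : ι} {c : W} {φ : Dual (ZMod 2) W} (h : T ρ QI i c φ) {g : H} (hg : ρ g (z i) = z j) :
    T ρ QI j (ρ g c) (φ ∘ₗ (ρ g⁻¹ : W ≃ₗ[ZMod 2] W).toLinearMap) := by
  obtain ⟨h0, h1, b, hb, hb'⟩ := h
  refine ⟨fun e => h0 ?_, by simp [rinv, h1], g * b * g⁻¹, s.Iconj g i j hg b hb, fun w => ?_⟩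
  · ext x
    have := LinearMap.congr_fun e (ρ g x)
    simpa using this
  · rw [rmul, rmul, hb', map_add, rinv', map_smul]
    simp

/-- The functionals of induced transvections kill `∑ z i`. -/
theorem fn_z0 {p : W} {ψ : Dual (ZMod 2) W} (hp : p ≠ 0) (h : Fn ρ p ψ) : ψ (∑ i, z i) = 0 := by
  obtain ⟨-, g, hg⟩ := h
  refine z2_ne_one fun e => hp ?_
  have h1 := hg (∑ i, z i)
  rw [s.z0, e, one_smul] at h1
  simpa using h1

/-- **The three-cycle argument.** -/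
theorem not_three {i : ι} {c p : W} {φ ψ : Dual (ZMod 2) W} (h : T ρ QI i c φ) (hp : Fn ρ p ψ)
    (h0 : ψ (z i) = 0) (h1 : ψ c = 1) (h2 : φ p = 1) : False := by
  obtain ⟨-, hc, b, hb, hb'⟩ := h
  obtain ⟨hpp, t, ht⟩ := hp
  have htz : ρ t (z i) = z i := by rw [ht, h0, zero_smul, add_zero]
  have h3 : t * b * t⁻¹ ∈ QI i := s.Iconj t i i htz b hb
  have ht' : ∀ w, ρ t⁻¹ w = w + ψ w • p := by
    intro w
    have h4 : ρ t (w + ψ w • p) = w := by
      rw [map_add, map_smul, ht, ht, hpp, zero_smul, add_zero, add_assoc, v_add_self, add_zero]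
    rw [← h4, rinv, h4]
  have hc0 : c ≠ 0 := by
    rintro rfl
    rw [map_zero] at h1
    exact zero_ne_one h1
  have e0 : ρ b (c + p) = p := by
    rw [hb', map_add, hc, h2, zero_add, one_smul]
    calc c + p + c = p + (c + c) := by abel
      _ = p := by rw [v_add_self, add_zero]
  have ep : ρ t p = p := by rw [ht, hpp, zero_smul, add_zero]
  have e1 : ρ (t * b * t⁻¹) c = p := by
    rw [rmul, rmul, ht', h1, one_smul, e0, ep]
  have e2 : ρ (t * b * t⁻¹) p = c := by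
    rw [rmul, rmul, ht', hpp, zero_smul, add_zero, hb', h2, one_smul, map_add, ep, ht, h1, one_smul]
    calc p + (c + p) = c + (p + p) := by abel
      _ = c := by rw [v_add_self, add_zero]
  have e3 : ρ b c = c := by rw [hb', hc, zero_smul, add_zero]
  have e4 : ρ b p = p + c := by rw [hb', h2, one_smul]
  -- `x = b * (t b t⁻¹)` : `c → p + c → p → c`
  have f1 : ρ (b * (t * b * t⁻¹)) c = p + c := by rw [rmul, e1, e4]
  have f2 : ρ (b * (t * b * t⁻¹)) (p + c) = p := by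
    rw [rmul, map_add, e1, e2, map_add, e3, e4]
    calc c + (p + c) = p + (c + c) := by abel
      _ = p := by rw [v_add_self, add_zero]
  have f3 : ρ (b * (t * b * t⁻¹)) p = c := by rw [rmul, e2, e3]
  have f4 := three_cycle (s.Ip i) ((QI i).mul_mem hb h3) f1 f2 f3
  have f5 : p = 0 := by
    have : p + c = 0 + c := by rw [← f4, zero_add]
    exact add_right_cancel this
  rw [f5, map_zero] at h2
  exact zero_ne_one h2

/-- `SysW` on the orbit of a centre. -/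
theorem sysW {i : ι} {c : W} {φ : Dual (ZMod 2) W} (hc : c ≠ 0) (h : T ρ QI i c φ) : SysW ρ (orb ρ c) where
  zero := by
    rintro ⟨g, hg⟩
    exact hc ((ρ g).map_eq_zero_iff.1 hg)
  inv := by
    rintro g r ⟨k, rfl⟩
    exact ⟨g * k, rmul ρ g k c⟩
  trans := by
    rintro r ⟨g, rfl⟩ t ⟨k, rfl⟩
    exact ⟨k * g⁻¹, by rw [rmul, rinv]⟩
  ex := ⟨c, ⟨1, rone ρ c⟩, φ, h.1, h.fn⟩
  chain := fun U hU g h1 h2 => s.chain U U le_rfl hU hU g h2
    (fun w hw => by rw [h1 w hw, v_add_self]; exact U.zero_mem) h1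

end Sit

end Cfsg.Agent.Omega.NO3S.SN2.TRV.Basic
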