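import Cfsg.Agent.Omega.NO3S.SN2.TRV.Const

/-!
# THEOREM TRV, big case: contradiction
-/

set_option autoImplicit false

namespace Cfsg.Agent.Omega.NO3S.SN2.TRV.BigU

open Module Cfsg.Agent.Omega.TV
open Cfsg.Agent.Omega.TV.Sys (Near rad Big Clo Small)
open Cfsg.Agent.Omega.NO3S.SN2.TRV.Basic Cfsg.Agent.Omega.NO3S.SN2.TRV.Sums

variable {H : Type*} [Group H] {W : Type*} [AddCommGroup W] [Module (ZMod 2) W] [Finite W]
  {ι : Type*} [Fintype ι] [DecidableEq ι]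
  {ρ : H →* (W ≃ₗ[ZMod 2] W)} {z : ι → W} {Q : Subgroup H} {QI : ι → Subgroup H} {Om : Set W}

theorem ne_zero_of_one {ψ : Dual (ZMod 2) W} {x : W} (h : ψ x = 1) : ψ ≠ 0 := by
  rintro rfl
  exact zero_ne_one h

/-- (X1): functionals move inside a class -/
theorem fn_move (h : SysW ρ Om) (hb : Big ρ Om) {r : W} (hr : r ∈ Om) {x y : W}
    (hx : x ∈ h.cls (h.clo_big hb) hr) (hx0 : x ≠ 0) (hy : y ∈ h.cls (h.clo_big hb) hr) (hy0 : y ≠ 0)
    {ψ : Dual (ZMod 2) W} (hψ : Fn ρ x ψ) (e : ψ y = 0) : Fn ρ y ψ := by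
  by_cases hxy : x = y
  · rwa [← hxy]
  · exact h.fn_of_adj (h.pt_of_mem _ hr hx hx0).1 (h.pt_of_mem _ hr hy hy0).1
      (h.adj_cls hb _ hr hx hx0 hy hy0 hxy) hψ e

theorem exists_cls_one (h : SysW ρ Om) (hb : Big ρ Om) {r : W} (hr : r ∈ Om) {x : W}
    (hx : x ∈ h.cls (h.clo_big hb) hr) (hx0 : x ≠ 0) {ψ : Dual (ZMod 2) W} (hψ : Fn ρ x ψ) (h0 : ψ ≠ 0) :
    ∃ t ∈ h.cls (h.clo_big hb) hr, ψ t = 1 := by
  obtain ⟨t, ht, e⟩ := h.exists_one (h.pt_of_mem _ hr hx hx0).1 hψ h0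
  exact ⟨t, h.mem_cls_of_adj _ hr hx hx0 ht ⟨ψ, hψ, e⟩, e⟩

/-- Two functionals of a class have a common zero in the class. -/
theorem common_zero (h : SysW ρ Om) (hb : Big ρ Om) {r : W} (hr : r ∈ Om) {p q : W}
    (hp : p ∈ h.cls (h.clo_big hb) hr) (hp0 : p ≠ 0) (hq : q ∈ h.cls (h.clo_big hb) hr) (hq0 : q ≠ 0)
    {χ ψ : Dual (ZMod 2) W} (hχ : Fn ρ p χ) (hψ : Fn ρ q ψ) :
    ∃ y ∈ h.cls (h.clo_big hb) hr, y ≠ 0 ∧ χ y = 0 ∧ ψ y = 0 := by
  rcases z2 (χ q) with e | e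
  · exact ⟨q, hq, hq0, e, hψ.1⟩
  rcases z2 (ψ p) with e' | e'
  · exact ⟨p, hp, hp0, hχ.1, e'⟩
  obtain ⟨κ, hκ0, hκ, -⟩ := hb r hr 0
  obtain ⟨t, -, ht⟩ := h.exists_one hr hκ hκ0
  obtain ⟨μ, hμ0, hμ, e1⟩ := hb r hr t
  have hne : κ ≠ μ := by
    rintro rfl
    rw [ht] at e1
    exact one_ne_zero e1
  obtain ⟨c, hc, hc0, h1, h2, h3⟩ := h.big_cls (h.clo_big hb) hr hκ hμ hκ0 hμ0 hne p q
  refine ⟨c + (ψ c • p + χ c • q), Submodule.add_mem _ hc (Submodule.add_mem _ (Submodule.smul_mem _ _ hp)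
    (Submodule.smul_mem _ _ hq)), ?_, ?_, ?_⟩
  · intro h4
    have h5 := v_eq_of_add h4
    rcases z2 (ψ c) with a | a <;> rcases z2 (χ c) with b | b <;> rw [a, b] at h5
    · exact hc0 (by simpa using h5)
    · exact h2 (by simpa using h5)
    · exact h1 (by simpa using h5)
    · exact h3 (by simpa using h5)
  · rw [map_add, map_add, map_smul, map_smul, hχ.1, e, smul_zero, zero_add, smul_eq_mul, mul_one, z2_add_self]
  · rw [map_add, map_add, map_smul, map_smul, hψ.1, e', smul_zero, add_zero, smul_eq_mul, mul_one, z2_add_self]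

/-- (a') -/
theorem key (s : Sit ρ z Q QI) (h : SysW ρ Om) (hb : Big ρ Om) {i : ι} {c : W} {φ : Dual (ZMod 2) W}
    (hT : T ρ QI i c φ) (hc : c ∈ Om) {x : W} (hx : x ∈ h.cls (h.clo_big hb) hc) (hx0 : x ≠ 0)
    {ψ : Dual (ZMod 2) W} (hψ : Fn ρ x ψ) (e : ψ (z i) = 0) : ψ c = 0 := by
  refine z2_ne_one fun e' => ?_
  have h1 : ∀ y ∈ h.cls (h.clo_big hb) hc, ψ y = 0 → φ y = 0 := by
    intro y hy hy1
    by_cases hy0 : y = 0
    · rw [hy0, map_zero]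
    exact z2_ne_one fun e2 => s.not_three hT (fn_move h hb hc hx hx0 hy hy0 hψ hy1) e e' e2
  have hcc := h.self_mem_cls (h.clo_big hb) hc
  obtain ⟨t, ht, e3⟩ := exists_cls_one h hb hc hcc (h.ne_zero hc) hT.fn hT.1
  have e4 : ψ t = 1 := z2_ne_zero fun e5 => by
    rw [h1 t ht e5] at e3
    exact zero_ne_one e3
  have e5 := h1 (t + c) (Submodule.add_mem _ ht hcc) (by rw [map_add, e4, e']; exact z2_add_self 1)
  rw [map_add, e3, hT.2.1, add_zero] at e5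
  exact one_ne_zero e5

theorem u1 (s : Sit ρ z Q QI) (h : SysW ρ Om) (hb : Big ρ Om) {i : ι} {c : W} {φ : Dual (ZMod 2) W}
    (hT : T ρ QI i c φ) (hc : c ∈ Om) {p : W} (hp : p ∈ Om) {ψ : Dual (ZMod 2) W} (hψ : Fn ρ p ψ) (h0 : ψ ≠ 0)
    (hn : Near ρ Om c p) : ψ (z i) = ψ c := by
  have hc0 := h.ne_zero hc
  have hp0 := h.ne_zero hp
  have hcc := h.self_mem_cls (h.clo_big hb) hc
  have hpc : p ∈ h.cls (h.clo_big hb) hc := (h.mem_cls _ hc).2 (Or.inr ⟨hp, hn⟩)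
  rcases z2 (ψ (z i)) with e | e
  · rw [e, key s h hb hT hc hpc hp0 hψ e]
  rcases z2 (ψ c) with e' | e'
  · exfalso
    have hψc : Fn ρ c ψ := fn_move h hb hc hpc hp0 hcc hc0 hψ e'
    -- a vector `x ≠ 0, c` with `ψ x = 0`
    obtain ⟨x, hx, hx0, hxc, ex⟩ : ∃ x ∈ h.cls (h.clo_big hb) hc, x ≠ 0 ∧ x ≠ c ∧ ψ x = 0 := by
      obtain ⟨t, ht, et⟩ := exists_cls_one h hb hc hcc hc0 hψc h0
      obtain ⟨κ, hκ0, hκ, eκ⟩ := hb c hc t
      obtain ⟨u, hu, eu⟩ := exists_cls_one h hb hc hcc hc0 hκ hκ0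
      rcases z2 (ψ u) with a | a
      · refine ⟨u, hu, ?_, ?_, a⟩
        · rintro rfl
          rw [map_zero] at eu
          exact zero_ne_one eu
        · rintro rfl
          rw [hκ.1] at eu
          exact zero_ne_one eu
      · have e1 : κ (u + t) = 1 := by rw [map_add, eu, eκ, add_zero]
        refine ⟨u + t, Submodule.add_mem _ hu ht, ?_, ?_, by rw [map_add, a, et]; exact z2_add_self 1⟩
        · intro e0
          rw [e0, map_zero] at e1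
          exact zero_ne_one e1
        · intro e0
          rw [e0, hκ.1] at e1
          exact zero_ne_one e1
    obtain ⟨χ, hχ, eχ⟩ := h.adj_cls hb (h.clo_big hb) hc hx hx0 hcc hc0 hxc
    have hψx : Fn ρ x ψ := fn_move h hb hc hpc hp0 hx hx0 hψ ex
    have e2 : χ (z i) = 1 := z2_ne_zero fun e3 => by
      rw [key s h hb hT hc hx hx0 hχ e3] at eχ
      exact zero_ne_one eχ
    have e4 := key s h hb hT hc hx hx0 (hψx.add hχ) (by rw [LinearMap.add_apply, e, e2]; exact z2_add_self 1)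
    rw [LinearMap.add_apply, e', eχ, zero_add] at e4
    exact one_ne_zero e4
  · rw [e, e']

theorem sep (h : SysW ρ Om) (hb : Big ρ Om) (x y : W) (hx : x = 0 ∨ x ∈ Om)
    (hy : y = 0 ∨ y ∈ Om) (he : ∀ q ∈ Om, ∀ ψ, Fn ρ q ψ → ψ x = ψ y) : x = y := by
  have one : ∀ {t : W}, t ∈ Om → ∃ q ∈ Om, ∃ ψ, Fn ρ q ψ ∧ ψ t = 1 := by
    intro t ht
    obtain ⟨q, hq, ha⟩ := h.exists_adj ht
    obtain ⟨ψ, hψ, e⟩ := h.symm ht hq ha
    exact ⟨q, hq, ψ, hψ, e⟩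
  rcases hx with rfl | hx <;> rcases hy with rfl | hy
  · rfl
  · obtain ⟨q, hq, ψ, hψ, e⟩ := one hy
    have := he q hq ψ hψ
    rw [map_zero, e] at this
    exact absurd this zero_ne_one
  · obtain ⟨q, hq, ψ, hψ, e⟩ := one hx
    have := he q hq ψ hψ
    rw [map_zero, e] at this
    exact absurd this one_ne_zero
  by_contra hne
  by_cases hn : Near ρ Om x y
  · obtain ⟨φ, hφ, e⟩ := h.adj_of_near hb hx hy hne hn
    have := he x hx φ hφ
    rw [hφ.1, e] at this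
    exact zero_ne_one this
  · obtain ⟨q, hq, ψ, hψ, e⟩ := one hx
    have e' := he q hq ψ hψ
    rw [e] at e'
    exact hn (h.near_trans hx hq hy (h.near_symm hq hx (h.near_of_adj hq hx ⟨ψ, hψ, e⟩))
      (h.near_of_adj hq hy ⟨ψ, hψ, e'.symm⟩))

theorem uni (s : Sit ρ z Q QI) (h : SysW ρ Om) (hb : Big ρ Om) (ex : ∃ i, (Cs ρ QI Om i).Nonempty) :
    Uni ρ z Q QI Om where
  s := s
  h := h
  ex := ex
  u1 := fun _ _ _ hT hc _ hp _ hψ h0 hn => u1 s h hb hT hc hp hψ h0 hn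
  sep := fun x y hx hy he => sep h hb x y hx hy he

/-- (B4): `V` is killed by the functionals of the class which kill the centre `c` -/
theorem V_zero (s : Sit ρ z Q QI) (h : SysW ρ Om) (hb : Big ρ Om) {i : ι} {c : W} {φ : Dual (ZMod 2) W}
    (hT : T ρ QI i c φ) (hc : c ∈ Om) {q : W} (hq : q ∈ h.cls (h.clo_big hb) hc) (hq0 : q ≠ 0)
    {ψ : Dual (ZMod 2) W} (hψ : Fn ρ q ψ) (e : ψ c = 0) {v : W}
    (hv : v ∈ Submodule.span (ZMod 2) (Set.range z)) : ψ v = 0 := by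
  have hc0 := h.ne_zero hc
  have hcc := h.self_mem_cls (h.clo_big hb) hc
  by_cases h0 : ψ = 0
  · rw [h0]; rfl
  by_cases h1 : φ = ψ
  · rw [← h1]
    exact s.T_V hc0 hT hv
  have hψc : Fn ρ c ψ := fn_move h hb hc hq hq0 hcc hc0 hψ e
  -- a vector `x` with `φ x = 1`, `ψ x = 0`
  obtain ⟨x, hx, e1, e2⟩ : ∃ x ∈ h.cls (h.clo_big hb) hc, φ x = 1 ∧ ψ x = 0 := by
    obtain ⟨t, ht, et⟩ := exists_cls_one h hb hc hcc hc0 hT.fn hT.1
    rcases z2 (ψ t) with a | a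
    · exact ⟨t, ht, et, a⟩
    have h2 : φ + ψ ≠ 0 := by
      intro h3
      refine h1 (LinearMap.ext fun x => ?_)
      have := LinearMap.congr_fun h3 x
      rw [LinearMap.add_apply, LinearMap.zero_apply] at this
      exact v_eq_of_add this
    obtain ⟨u, hu, eu⟩ := exists_cls_one h hb hc hcc hc0 (hT.fn.add hψc) h2
    rw [LinearMap.add_apply] at eu
    rcases z2 (ψ u) with b | b
    · rw [b, add_zero] at eu
      exact ⟨u, hu, eu, b⟩
    · have b' : φ u = 0 := z2_ne_one fun h3 => by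
        rw [h3, b, z2_add_self] at eu
        exact zero_ne_one eu
      exact ⟨t + u, Submodule.add_mem _ ht hu, by rw [map_add, et, b', add_zero],
        by rw [map_add, a, b]; exact z2_add_self 1⟩
  have hx0 : x ≠ 0 := by
    rintro rfl
    rw [map_zero] at e1
    exact zero_ne_one e1
  have hψx : Fn ρ x ψ := fn_move h hb hc hq hq0 hx hx0 hψ e2
  have hzi : ψ (z i) = 0 := by
    rw [u1 s h hb hT hc (h.pt_of_mem _ hc hq hq0).1 hψ h0 (h.pt_of_mem _ hc hq hq0).2, e]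
  obtain ⟨-, t, ht⟩ := id hψx
  have htz : ρ t (z i) = z i := by rw [ht, hzi, zero_smul, add_zero]
  have htc : ρ t c = c := by rw [ht, e, zero_smul, add_zero]
  have ht' : ∀ w, ρ t⁻¹ w = w + ψ w • x := by
    intro w
    have h4 : ρ t (w + ψ w • x) = w := by
      rw [map_add, map_smul, ht, ht, e2, zero_smul, add_zero, add_assoc, v_add_self, add_zero]
    rw [← h4, rinv, h4]
  have hT' := s.T_conj hT htz
  rw [htc] at hT'
  have h5 := s.T_V hc0 hT' hv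
  change φ (ρ t⁻¹ v) = 0 at h5
  rw [ht', map_add, map_smul, s.T_V hc0 hT hv, e1, zero_add, smul_eq_mul, mul_one] at h5
  exact h5

/-- **Big case.** -/
theorem false_of_big (s : Sit ρ z Q QI) (h : SysW ρ Om) (hb : Big ρ Om) (ex : ∃ i, (Cs ρ QI Om i).Nonempty) :
    False := by
  set U := uni s h hb ex with hU
  refine Const.false_of U fun p hp χ hχ i j hi hj => ?_
  have hcne := U.cc_ne hp hχ hi
  rcases U.cc_cases i p with ⟨⟨hcO, φ, hT⟩, hn⟩ | ⟨h1, -⟩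
  swap
  · exact absurd h1 hcne
  set c := U.cc i p with hc
  have hpc : p ∈ h.cls (h.clo_big hb) hcO := (h.mem_cls _ hcO).2 (Or.inr ⟨hp, hn⟩)
  have hχ0 : χ ≠ 0 := ne_zero_of_one hi
  have hχc : χ c = 1 := by rw [← u1 s h hb hT hcO hp hχ hχ0 hn, hi]
  refine U.sep _ _ (Or.inr hcO) (U.cc_or j p) fun q hq ψ hψ => ?_
  by_cases hnq : Near ρ Om p q
  swap
  · rw [U.psi_cc0 (i := j) hp hq hnq hψ, hc, U.psi_cc0 (i := i) hp hq hnq hψ]
  rw [U.psi_cc (i := j) hp hq hnq hψ]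
  have hqc : q ∈ h.cls (h.clo_big hb) hcO :=
    (h.mem_cls _ hcO).2 (Or.inr ⟨hq, h.near_trans hcO hp hq hn hnq⟩)
  rcases z2 (ψ c) with e | e
  · rw [e, V_zero s h hb hT hcO hqc (h.ne_zero hq) hψ e (s.z_mem j)]
  · obtain ⟨y, hy, hy0, y1, y2⟩ := common_zero h hb hcO hpc (h.ne_zero hp) hqc (h.ne_zero hq) hχ hψ
    have f1 := fn_move h hb hcO hpc (h.ne_zero hp) hy hy0 hχ y1
    have f2 := fn_move h hb hcO hqc (h.ne_zero hq) hy hy0 hψ y2
    have h3 := V_zero s h hb hT hcO hy hy0 (f1.add f2)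
      (by rw [LinearMap.add_apply, hχc, e]; exact z2_add_self 1) (s.z_mem j)
    rw [LinearMap.add_apply, hj] at h3
    rw [e]
    refine (z2_ne_zero fun h4 => ?_).symm
    rw [h4, add_zero] at h3
    exact one_ne_zero h3

end Cfsg.Agent.Omega.NO3S.SN2.TRV.BigU
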