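import Cfsg.Agent.Omega.NO3S.SN2.TRV.Sums

/-!
# THEOREM TRV (5): the components are not constant on the sets `J(p)`
-/

set_option autoImplicit false

namespace Cfsg.Agent.Omega.NO3S.SN2.TRV.Const

open Module Cfsg.Agent.Omega.TV
open Cfsg.Agent.Omega.TV.Sys (Near rad Big Clo Small)
open Cfsg.Agent.Omega.NO3S.SN2.TRV.Basic Cfsg.Agent.Omega.NO3S.SN2.TRV.Sums

variable {H : Type*} [Group H] {W : Type*} [AddCommGroup W] [Module (ZMod 2) W]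
  {ι : Type*} [Fintype ι] [DecidableEq ι]
  {ρ : H →* (W ≃ₗ[ZMod 2] W)} {z : ι → W} {Q : Subgroup H} {QI : ι → Subgroup H} {Om : Set W}

/-- The centres in `QI i` of the classes with set `J = {k | ψ (z k) = 1}`. -/
def SJ (ρ : H →* (W ≃ₗ[ZMod 2] W)) (z : ι → W) (QI : ι → Subgroup H) (Om : Set W) (i : ι)
    (ψ : Dual (ZMod 2) W) : Set W :=
  {c | c ∈ Cs ρ QI Om i ∧ ∃ r ∈ Om, ∃ χ, Fn ρ r χ ∧ Near ρ Om c r ∧ ∀ k, χ (z k) = 1 ↔ ψ (z k) = 1}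

variable [Finite W] (U : Uni ρ z Q QI Om)

include U

theorem sj_conj {i : ι} {ψ : Dual (ZMod 2) W} (hi : ψ (z i) = 1)
    (E1 : ∀ p ∈ Om, ∀ χ, Fn ρ p χ → ∀ i j, χ (z i) = 1 → χ (z j) = 1 → U.cc i p = U.cc j p)
    {g : H} {σ : Equiv.Perm ι} (hg : ∀ k, ρ g (z k) = z (σ k)) (hσ : ∀ k, ψ (z (σ k)) = 1 ↔ ψ (z k) = 1)
    {c : W} (hc : c ∈ SJ ρ z QI Om i ψ) : ρ g c ∈ SJ ρ z QI Om i ψ := by
  obtain ⟨h1, r, hr, χ, hχ, hn, hk⟩ := hc
  have h2 : ρ g c ∈ Cs ρ QI Om (σ i) := U.cs_conj h1 (hg i)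
  have hr' : ρ g r ∈ Om := U.h.inv g r hr
  have hn' : Near ρ Om (ρ g c) (ρ g r) := SysW.near_conj U.h hn g
  have hχ' := hχ.conj g
  have hk' : ∀ k, (χ ∘ₗ (ρ g⁻¹ : W ≃ₗ[ZMod 2] W).toLinearMap) (z k) = 1 ↔ ψ (z k) = 1 := by
    intro k
    have e1 : ρ g⁻¹ (z k) = z (σ.symm k) := by
      have h3 := hg (σ.symm k)
      rw [Equiv.apply_symm_apply] at h3
      rw [← h3, rinv]
    have e2 := hσ (σ.symm k)
    rw [Equiv.apply_symm_apply] at e2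
    change χ (ρ g⁻¹ (z k)) = 1 ↔ _
    rw [e1, hk, e2]
  have h3 : U.cc i (ρ g r) = U.cc (σ i) (ρ g r) :=
    E1 _ hr' _ hχ' i (σ i) ((hk' i).2 hi) ((hk' (σ i)).2 ((hσ i).2 hi))
  rw [U.cc_eq hr' h2 hn'] at h3
  rcases U.cc_cases i (ρ g r) with ⟨h4, -⟩ | ⟨h4, -⟩
  · rw [h3] at h4
    exact ⟨h4, ρ g r, hr', _, hχ', hn', hk'⟩
  · exact absurd h4 (U.cc_ne hr' hχ' ((hk' i).2 hi))

/-- **(5)** -/
theorem false_of (E1 : ∀ p ∈ Om, ∀ χ, Fn ρ p χ → ∀ i j, χ (z i) = 1 → χ (z j) = 1 → U.cc i p = U.cc j p) :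
    False := by
  classical
  obtain ⟨i, c, hc⟩ := U.ex
  obtain ⟨p, hp, hadj⟩ := U.h.exists_adj hc.1
  obtain ⟨ψ, hψ, e⟩ := U.h.symm hc.1 hp hadj
  have hn : Near ρ Om c p := U.h.near_of_adj hc.1 hp hadj
  have hψ0 : ψ ≠ 0 := by
    rintro rfl
    exact zero_ne_one e
  have hi : ψ (z i) = 1 := by
    obtain ⟨hcO, φ, hT⟩ := hc
    rw [U.u1 i c φ hT hcO p hp ψ hψ hψ0 hn, e]
  have hcS : c ∈ SJ ρ z QI Om i ψ := ⟨hc, p, hp, ψ, hψ, hn, fun _ => Iff.rfl⟩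
  set s : W := ∑ a ∈ (Set.toFinite (SJ ρ z QI Om i ψ)).toFinset, a with hs
  have hinv : ∀ (g : H) (σ : Equiv.Perm ι), (∀ k, ρ g (z k) = z (σ k)) →
      (∀ k, ψ (z (σ k)) = 1 ↔ ψ (z k) = 1) → ρ g s = s := by
    intro g σ hg hσ
    refine sum_image (fun _ ha => sj_conj U hi E1 hg hσ ha) fun _ hb => sj_conj U hi E1 (σ := σ.symm) ?_ ?_ hb
    · intro k
      have h3 := hg (σ.symm k)
      rw [Equiv.apply_symm_apply] at h3
      rw [← h3, rinv]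
    · intro k
      have h3 := hσ (σ.symm k)
      rw [Equiv.apply_symm_apply] at h3
      exact h3.symm
  have hsV : s ∈ Submodule.span (ZMod 2) (Set.range z) :=
    U.s.fixV _ fun q hq => hinv q 1 (fun k => U.s.Qz q hq k) fun _ => Iff.rfl
  obtain ⟨a, ha⟩ := exists_coeff hsV
  have h1 : ∀ k, ψ (z k) = 1 → a k = a i := by
    intro k hk
    obtain ⟨g, hg⟩ := U.s.ind (Equiv.swap k i)
    refine swap_coeff U.s.li hg ?_
    rw [ha]
    refine hinv g _ hg fun l => ?_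
    by_cases hlk : l = k
    · subst hlk
      rw [Equiv.swap_apply_left]
      exact ⟨fun _ => hk, fun _ => hi⟩
    by_cases hli : l = i
    · subst hli
      rw [Equiv.swap_apply_right]
      exact ⟨fun _ => hi, fun _ => hk⟩
    rw [Equiv.swap_apply_of_ne_of_ne hlk hli]
  have h2 : ψ s = 0 := by
    rw [← ha, map_sum]
    have h3 : ∑ k, ψ (a k • z k) = a i • ψ (∑ k, z k) := by
      rw [map_sum, Finset.smul_sum]
      refine Finset.sum_congr rfl fun k _ => ?_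
      rw [map_smul]
      rcases z2 (ψ (z k)) with e0 | e1
      · rw [e0, smul_zero, smul_zero]
      · rw [h1 k e1]
    rw [h3, U.s.fn_z0 (U.h.ne_zero hp) hψ, smul_zero]
  have h3 : ψ s = ψ c := by
    rw [hs, map_sum]
    refine Finset.sum_eq_single_of_mem c ((Set.Finite.mem_toFinset _).2 hcS) fun c' hc' hne => ?_
    have h4 : c' ∈ SJ ρ z QI Om i ψ := (Set.Finite.mem_toFinset _).1 hc'
    refine U.not_near_zero h4.1.1 hp hψ fun hn' => hne ?_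
    exact U.cs_unique h4.1 hc (U.h.near_trans h4.1.1 hp hc.1 hn' (U.h.near_symm hc.1 hp hn))
  rw [h2, e] at h3
  exact zero_ne_one h3

end Cfsg.Agent.Omega.NO3S.SN2.TRV.Const
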