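import Cfsg.Agent.Omega.NO3S.SN2.TRV.Pair
import Cfsg.Agent.Omega.NO3S.SN2.TRV.BigU

/-!
# THEOREM TRV (helper147, bb #22530), abstract form

`Sit.heavy` : a transvection of `W` in `QI i` gives one with centre `z i` or `z i + ∑ z j`.
-/

set_option autoImplicit false

namespace Cfsg.Agent.Omega.NO3S.SN2.TRV.Main

open Module Cfsg.Agent.Omega.TV
open Cfsg.Agent.Omega.TV.Sys (Near rad Big Clo Small)
open Cfsg.Agent.Omega.NO3S.SN2.TRV.Basic Cfsg.Agent.Omega.NO3S.SN2.TRV.Sums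

variable {H : Type*} [Group H] {W : Type*} [AddCommGroup W] [Module (ZMod 2) W] [Finite W]
  {ι : Type*} [Fintype ι] [DecidableEq ι]
  {ρ : H →* (W ≃ₗ[ZMod 2] W)} {z : ι → W} {Q : Subgroup H} {QI : ι → Subgroup H} {Om : Set W}

/-- `p` is in the unique class in which `z i`, `z j` have different components. -/
structure PairAt (U : Uni ρ z Q QI Om) (i j : ι) (p : W) : Prop where
  mem : p ∈ Om
  ne : U.cc i p ≠ U.cc j p
  uniq : ∀ q ∈ Om, U.cc i q ≠ U.cc j q → Near ρ Om p q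

theorem PairAt.symm {U : Uni ρ z Q QI Om} {i j : ι} {p : W} (h : PairAt U i j p) : PairAt U j i p :=
  ⟨h.mem, fun e => h.ne e.symm, fun q hq e => h.uniq q hq fun e' => e e'.symm⟩

theorem PairAt.conj {U : Uni ρ z Q QI Om} {i j k l : ι} {p : W} (h : PairAt U i j p) {g : H}
    (h1 : ρ g (z i) = z k) (h2 : ρ g (z j) = z l) : PairAt U k l (ρ g p) where
  mem := U.h.inv g p h.mem
  ne := by
    rw [U.cc_conj h.mem h1, U.cc_conj h.mem h2]
    intro e
    exact h.ne ((ρ g).injective e)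
  uniq := by
    intro q hq hne
    have hq' : ρ g⁻¹ q ∈ Om := U.h.inv g⁻¹ q hq
    have e1 : U.cc k q = ρ g (U.cc i (ρ g⁻¹ q)) := by rw [← U.cc_conj hq' h1, rinv']
    have e2 : U.cc l q = ρ g (U.cc j (ρ g⁻¹ q)) := by rw [← U.cc_conj hq' h2, rinv']
    have h3 : U.cc i (ρ g⁻¹ q) ≠ U.cc j (ρ g⁻¹ q) := by
      intro e
      rw [e1, e2, e] at hne
      exact hne rfl
    have h4 := SysW.near_conj U.h (h.uniq _ hq' h3) g
    rwa [rinv'] at h4

/-- (4), first part -/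
theorem pairAt_of (U : Uni ρ z Q QI Om) {i j : ι} {p : W} (hp : p ∈ Om) (hne : U.cc i p ≠ U.cc j p)
    (h : z i + z j = U.cc i p + U.cc j p) : PairAt U i j p where
  mem := hp
  ne := hne
  uniq := by
    intro q hq hne'
    by_contra hn
    refine hne' (U.sep _ _ (U.cc_or i q) (U.cc_or j q) fun r hr ψ hψ => ?_)
    by_cases hqr : Near ρ Om q r
    · have hpr : ¬ Near ρ Om p r := fun e => hn (U.h.near_trans hp hr hq e (U.h.near_symm hq hr hqr))
      rw [U.psi_cc hq hr hqr hψ, U.psi_cc hq hr hqr hψ]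
      have h1 : ψ (z i + z j) = 0 := by
        rw [h, map_add, U.psi_cc0 hp hr hpr hψ, U.psi_cc0 hp hr hpr hψ, add_zero]
      rw [map_add] at h1
      exact v_eq_of_add h1
    · rw [U.psi_cc0 hq hr hqr hψ, U.psi_cc0 hq hr hqr hψ]

/-- all pairs belong to the same class -/
theorem near_third (U : Uni ρ z Q QI Om) {i j k : ι} {a b c : W} (ha : PairAt U i j a) (hb : PairAt U i k b)
    (hc : PairAt U j k c) : Near ρ Om a b := by
  by_contra hn
  have h1 : Near ρ Om c a := by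
    refine hc.uniq a ha.mem fun e => ?_
    refine hn (U.h.near_symm hb.mem ha.mem (hb.uniq a ha.mem fun e' => ?_))
    exact ha.ne (e'.trans e.symm)
  have h2 : Near ρ Om c b := by
    refine hc.uniq b hb.mem fun e => ?_
    refine hn (ha.uniq b hb.mem fun e' => ?_)
    exact hb.ne (e'.trans e)
  exact hn (U.h.near_trans ha.mem hc.mem hb.mem (U.h.near_symm hc.mem ha.mem h1) h2)

theorem pairAt_all (U : Uni ρ z Q QI Om) {i j : ι} {p : W} (h : PairAt U i j p) {k : ι} (hk : k ≠ i) :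
    PairAt U i k p := by
  classical
  by_cases hkj : k = j
  · rw [hkj]; exact h
  have hij : i ≠ j := by
    rintro rfl
    exact h.ne rfl
  obtain ⟨g, hg⟩ := U.s.ind (Equiv.swap j k)
  obtain ⟨g', hg'⟩ := U.s.ind (Equiv.swap i k)
  have h1 : PairAt U i k (ρ g p) := by
    refine h.conj ?_ ?_
    · rw [hg, Equiv.swap_apply_of_ne_of_ne hij (Ne.symm hk)]
    · rw [hg, Equiv.swap_apply_left]
  have h2 : PairAt U k j (ρ g' p) := by
    refine h.conj ?_ ?_
    · rw [hg', Equiv.swap_apply_left]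
    · rw [hg', Equiv.swap_apply_of_ne_of_ne (Ne.symm hij) (Ne.symm hkj)]
  have h3 : Near ρ Om p (ρ g p) := near_third U h h1 h2.symm
  refine ⟨h.mem, fun e => h1.ne ?_, fun q hq e => U.h.near_trans h.mem h1.mem hq h3 (h1.uniq q hq e)⟩
  rw [← U.cc_near h.mem h1.mem h3, ← U.cc_near h.mem h1.mem h3, e]

/-- **(4)** -/
theorem heavy_of_pair (U : Uni ρ z Q QI Om) {i j : ι} {p : W} (h : PairAt U i j p) :
    ∃ α : ZMod 2, U.cc i p = z i + α • ∑ k, z k := by
  classical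
  have hij : j ≠ i := by
    rintro rfl
    exact h.ne rfl
  -- outside the class of `p` all components agree
  have hall : ∀ q ∈ Om, ¬ Near ρ Om p q → ∀ k, U.cc k q = U.cc i q := by
    intro q hq hn k
    by_cases hk : k = i
    · rw [hk]
    · by_contra e
      exact hn ((pairAt_all U h hk).uniq q hq fun e' => e e'.symm)
  have hnear : ∀ (g : H) (σ : Equiv.Perm ι), (∀ k, ρ g (z k) = z (σ k)) → Near ρ Om p (ρ g p) := by
    intro g σ hg
    by_contra hn
    have hm := U.h.inv g p h.mem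
    have h1 := hall _ hm hn (σ i)
    have h2 := hall _ hm hn (σ j)
    rw [U.cc_conj h.mem (hg i)] at h1
    rw [U.cc_conj h.mem (hg j), ← h1] at h2
    exact h.ne ((ρ g).injective h2).symm
  set E : Set W := {c | c ∈ Cs ρ QI Om i ∧ ¬ Near ρ Om p c} with hE
  have hEc : ∀ (g : H) (σ : Equiv.Perm ι), (∀ k, ρ g (z k) = z (σ k)) → ∀ c ∈ E, ρ g c ∈ E := by
    intro g σ hg c hc
    have h1 : ρ g c ∈ Cs ρ QI Om (σ i) := U.cs_conj hc.1 (hg i)
    have hm : ρ g p ∈ Om := U.h.inv g p h.mem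
    have h2 : ¬ Near ρ Om p (ρ g c) := by
      intro e
      refine hc.2 ?_
      have h3 := U.h.near_trans hm h.mem h1.1 (U.h.near_symm h.mem hm (hnear g σ hg)) e
      have h4 := SysW.near_conj U.h h3 g⁻¹
      rwa [rinv, rinv] at h4
    have h3 := hall _ h1.1 h2 (σ i)
    rw [U.cc_eq h1.1 h1 (U.h.near_refl h1.1)] at h3
    rcases U.cc_cases i (ρ g c) with ⟨h4, -⟩ | ⟨h4, -⟩
    · rw [← h3] at h4
      exact ⟨h4, h2⟩
    · rw [h4] at h3
      exact absurd h3 (U.h.ne_zero h1.1)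
  set e : W := ∑ a ∈ (Set.toFinite E).toFinset, a with he
  have hinv : ∀ (g : H) (σ : Equiv.Perm ι), (∀ k, ρ g (z k) = z (σ k)) → ρ g e = e := by
    intro g σ hg
    refine sum_image (hEc g σ hg) (hEc g⁻¹ σ.symm fun k => ?_)
    have h3 := hg (σ.symm k)
    rw [Equiv.apply_symm_apply] at h3
    rw [← h3, rinv]
  have heV : e ∈ Submodule.span (ZMod 2) (Set.range z) :=
    U.s.fixV _ fun q hq => hinv q 1 fun k => U.s.Qz q hq k
  obtain ⟨a, ha⟩ := exists_coeff heV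
  have h1 : ∀ k, a k = a i := by
    intro k
    obtain ⟨g, hg⟩ := U.s.ind (Equiv.swap k i)
    refine swap_coeff U.s.li hg ?_
    rw [ha]
    exact hinv g _ hg
  have h2 : e = a i • ∑ k, z k := by
    rw [← ha, Finset.smul_sum]
    exact Finset.sum_congr rfl fun k _ => by rw [h1]
  -- `s_i = c_i + e`
  have h3 : U.S i = U.cc i p + e := by
    have h5 : ∀ c ∈ Cs ρ QI Om i, Near ρ Om p c → c = U.cc i p := fun c hc hn =>
      (U.cc_eq h.mem hc (U.h.near_symm h.mem hc.1 hn)).symm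
    rcases U.cc_cases i p with ⟨h4, h4'⟩ | ⟨h4, h4'⟩
    · rw [Uni.S, ← Finset.add_sum_erase _ _ ((Set.Finite.mem_toFinset (Set.toFinite (Cs ρ QI Om i))).2 h4), he]
      congr 1
      refine Finset.sum_congr ?_ fun _ _ => rfl
      ext c
      simp only [Finset.mem_erase, Set.Finite.mem_toFinset, hE, Set.mem_setOf_eq]
      constructor
      · rintro ⟨hne, hc⟩
        exact ⟨hc, fun hn => hne (h5 c hc hn)⟩
      · rintro ⟨hc, hn⟩
        refine ⟨?_, hc⟩
        rintro rfl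
        exact hn (U.h.near_symm h4.1 h.mem h4')
    · rw [Uni.S, he, h4, zero_add]
      refine Finset.sum_congr ?_ fun _ _ => rfl
      ext c
      simp only [Set.Finite.mem_toFinset, hE, Set.mem_setOf_eq]
      exact ⟨fun hc => ⟨hc, fun hn => h4' c hc (U.h.near_symm h.mem hc.1 hn)⟩, fun hc => hc.1⟩
  obtain ⟨α, hα⟩ := U.S_eq i
  refine ⟨α + a i, ?_⟩
  calc U.cc i p = U.cc i p + e + e := by rw [add_add_self]
    _ = z i + α • ∑ k, z k + a i • ∑ k, z k := by rw [← h3, hα, h2]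
    _ = _ := by rw [add_smul]; abel

/-- **THEOREM TRV.** -/
theorem heavy (s : Sit ρ z Q QI) {i : ι} {b : H} (hb : b ∈ QI i) {c : W} {φ : Dual (ZMod 2) W} (hφ : φ ≠ 0)
    (hc : c ≠ 0) (h : ∀ w, ρ b w = w + φ w • c) :
    ∃ b' ∈ QI i, ∃ φ' : Dual (ZMod 2) W, φ' ≠ 0 ∧ ∃ α : ZMod 2,
      ∀ w, ρ b' w = w + φ' w • (z i + α • ∑ k, z k) := by
  classical
  have hT : T ρ QI i c φ := ⟨hφ, fn_self hc h, b, hb, h⟩
  have hW := s.sysW hc hT
  have ex : ∃ i, (Cs ρ QI (orb ρ c) i).Nonempty := ⟨i, c, ⟨1, rone ρ c⟩, φ, hT⟩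
  have hs : Cfsg.Agent.Omega.TV.Sys.Small ρ (orb ρ c) := by
    by_contra hs
    unfold Cfsg.Agent.Omega.TV.Sys.Small at hs
    push Not at hs
    obtain ⟨r, hr, φ, ψ, h1, h2, h3, h4, h5⟩ := hs
    exact BigU.false_of_big s hW (hW.big_of hr h1 h2 h3 h4 h5) ex
  set U := SmallU.uni s hW hs ex
  -- (5): some component is not constant
  obtain ⟨p, hp, χ, hχ, k, l, hk, hl, hne⟩ : ∃ p ∈ orb ρ c, ∃ χ, Fn ρ p χ ∧ ∃ k l, χ (z k) = 1 ∧ χ (z l) = 1 ∧
      U.cc k p ≠ U.cc l p := by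
    by_contra hcon
    push Not at hcon
    exact Const.false_of U fun p hp χ hχ i j hi hj => hcon p hp χ hχ i j hi hj
  have h1 := pairAt_of U hp hne (Pair.pair U hs hp hχ hk hl hne)
  -- move `k` to `i`
  obtain ⟨g, hg⟩ := s.ind (Equiv.swap k i)
  have hgk : ρ g (z k) = z i := by rw [hg, Equiv.swap_apply_left]
  have h2 : PairAt U i (Equiv.swap k i l) (ρ g p) := h1.conj hgk (hg l)
  obtain ⟨α, hα⟩ := heavy_of_pair U h2
  have hpp : Near ρ (orb ρ c) (ρ g p) (ρ g p) := U.h.near_refl h2.mem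
  have hne0 : U.cc i (ρ g p) ≠ 0 := by
    have hχ' := hχ.conj g
    refine U.cc_ne h2.mem hχ' ?_
    change χ (ρ g⁻¹ (z i)) = 1
    rw [← hgk, rinv, hk]
  obtain ⟨⟨-, φ', hφ'0, -, b', hb', hb''⟩, -⟩ := (U.cc_cases i (ρ g p)).resolve_right fun e => hne0 e.1
  refine ⟨b', hb', φ', hφ'0, α, fun w => ?_⟩
  rw [hb'', hα]

end Cfsg.Agent.Omega.NO3S.SN2.TRV.Main
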