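import Cfsg.Agent.Omega.NO3S.SN2.TRV.SmallU

/-!
# THEOREM TRV (3): `c_i + c_j = z_i + z_j`
-/

set_option autoImplicit false

namespace Cfsg.Agent.Omega.NO3S.SN2.TRV.Pair

open Module Cfsg.Agent.Omega.TV
open Cfsg.Agent.Omega.TV.Sys (Near rad Big Clo Small)
open Cfsg.Agent.Omega.NO3S.SN2.TRV.Basic Cfsg.Agent.Omega.NO3S.SN2.TRV.Sums
open Cfsg.Agent.Omega.NO3S.SN2.TRV.SmallU (sym span_inv ne_zero_of_one)

variable {H : Type*} [Group H] {W : Type*} [AddCommGroup W] [Module (ZMod 2) W]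
  {ι : Type*} [Fintype ι] [DecidableEq ι]
  {ρ : H →* (W ≃ₗ[ZMod 2] W)} {z : ι → W} {Q : Subgroup H} {QI : ι → Subgroup H} {Om : Set W}

/-- `D = V ∩ ker χ` -/
def Dx (z : ι → W) (χ : Dual (ZMod 2) W) : Submodule (ZMod 2) W :=
  Submodule.span (ZMod 2) (Set.range z) ⊓ LinearMap.ker χ

/-- The points whose functionals vanish on `D`. -/
def QS (ρ : H →* (W ≃ₗ[ZMod 2] W)) (Om : Set W) (D : Submodule (ZMod 2) W) : Set W :=
  {q | q ∈ Om ∧ ∀ ψ, Fn ρ q ψ → ∀ v ∈ D, ψ v = 0}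

/-- The common zeros of the functionals of `QS`. -/
def perp (ρ : H →* (W ≃ₗ[ZMod 2] W)) (Om : Set W) (D : Submodule (ZMod 2) W) : Submodule (ZMod 2) W where
  carrier := {x | ∀ q ∈ QS ρ Om D, ∀ ψ, Fn ρ q ψ → ψ x = 0}
  zero_mem' := fun q _ ψ _ => map_zero ψ
  add_mem' := fun ha hb q hq ψ hψ => by rw [map_add, ha q hq ψ hψ, hb q hq ψ hψ, add_zero]
  smul_mem' := fun c x hx q hq ψ hψ => by rw [map_smul, hx q hq ψ hψ, smul_zero]

theorem inv_fix {D : Submodule (ZMod 2) W} {g : H} (hg : ∀ d ∈ D, ρ g d = d) : ∀ d ∈ D, ρ g⁻¹ d = d := by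
  intro d hd
  have := congrArg (ρ g⁻¹) (hg d hd)
  rw [rinv] at this
  exact this.symm

theorem QS_inv (h : SysW ρ Om) {D : Submodule (ZMod 2) W} {g : H} (hg : ∀ d ∈ D, ρ g d = d) {q : W}
    (hq : q ∈ QS ρ Om D) : ρ g q ∈ QS ρ Om D := by
  refine ⟨h.inv g q hq.1, fun ψ hψ v hv => ?_⟩
  have h1 := hψ.conj g⁻¹
  rw [rinv, inv_inv] at h1
  have h2 := hq.2 _ h1 v hv
  change ψ (ρ g v) = 0 at h2
  rwa [hg v hv] at h2

theorem span_QS_inv (h : SysW ρ Om) {D : Submodule (ZMod 2) W} {g : H} (hg : ∀ d ∈ D, ρ g d = d) {w : W}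
    (hw : w ∈ Submodule.span (ZMod 2) (QS ρ Om D)) : ρ g w ∈ Submodule.span (ZMod 2) (QS ρ Om D) := by
  have h2 : Submodule.span (ZMod 2) (QS ρ Om D) ≤
      (Submodule.span (ZMod 2) (QS ρ Om D)).comap ((ρ g : W ≃ₗ[ZMod 2] W).toLinearMap) :=
    Submodule.span_le.2 fun t ht => Submodule.subset_span (QS_inv h hg ht)
  exact h2 hw

theorem perp_inv (h : SysW ρ Om) {D : Submodule (ZMod 2) W} {g : H} (hg : ∀ d ∈ D, ρ g d = d) {w : W}
    (hw : w ∈ perp ρ Om D) : ρ g w ∈ perp ρ Om D := by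
  intro q hq ψ hψ
  have h1 := hψ.conj g⁻¹
  rw [inv_inv] at h1
  exact hw _ (QS_inv h (inv_fix hg) hq) _ h1

theorem two_sets (hli : LinearIndependent (ZMod 2) z) {i i' j j' : ι} (hij : i ≠ j) (hi : i' ≠ i) (hj : j' ≠ j)
    (h : z i + z i' = z j + z j') : i' = j := by
  classical
  by_contra hne
  have h1 : ∀ k, ∑ l, (if l = k then (1 : ZMod 2) else 0) • z l = z k := by
    intro k
    simp [ite_smul]
  have h2 : ∑ l, (((if l = i then (1 : ZMod 2) else 0) + (if l = i' then 1 else 0)) +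
      ((if l = j then 1 else 0) + (if l = j' then 1 else 0))) • z l = 0 := by
    simp only [add_smul, Finset.sum_add_distrib]
    rw [h1, h1, h1, h1, h]
    exact v_add_self _
  have h3 := (Fintype.linearIndependent_iff.1 hli) _ h2 j
  rw [if_neg (Ne.symm hij), if_neg (Ne.symm hne), if_pos rfl, if_neg (Ne.symm hj)] at h3
  simp at h3

variable [Finite W]

/-- **(3)** -/
theorem pair (U : Uni ρ z Q QI Om) (hs : Small ρ Om) {p : W} (hp : p ∈ Om) {χ : Dual (ZMod 2) W}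
    (hχ : Fn ρ p χ) {i j : ι} (hi : χ (z i) = 1) (hj : χ (z j) = 1) (hne : U.cc i p ≠ U.cc j p) :
    z i + z j = U.cc i p + U.cc j p := by
  have hij : i ≠ j := by
    rintro rfl
    exact hne rfl
  have hχ0 : χ ≠ 0 := ne_zero_of_one hi
  have hpp := U.h.near_refl hp
  obtain ⟨⟨hciO, α, hα⟩, hni⟩ := (U.cc_cases i p).resolve_right fun e => U.cc_ne hp hχ hi e.1
  obtain ⟨⟨hcjO, β, hβ⟩, hnj⟩ := (U.cc_cases j p).resolve_right fun e => U.cc_ne hp hχ hj e.1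
  have hχi : χ (U.cc i p) = 1 := by rw [U.psi_cc hp hp hpp hχ, hi]
  have hχj : χ (U.cc j p) = 1 := by rw [U.psi_cc hp hp hpp hχ, hj]
  have hcc : ∀ q ∈ QS ρ Om (Dx z χ), ∀ ψ, Fn ρ q ψ → ψ (U.cc i p) = ψ (U.cc j p) := by
    intro q hq ψ hψ
    by_cases hn : Near ρ Om p q
    · rw [U.psi_cc hp hq.1 hn hψ, U.psi_cc hp hq.1 hn hψ]
      have h1 := hq.2 ψ hψ (z i + z j) ⟨Submodule.add_mem _ (U.s.z_mem i) (U.s.z_mem j), by
        change χ (z i + z j) = 0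
        rw [map_add, hi, hj]
        exact z2_add_self 1⟩
      rw [map_add] at h1
      exact v_eq_of_add h1
    · rw [U.psi_cc0 hp hq.1 hn hψ, U.psi_cc0 hp hq.1 hn hψ]
  have hVi := fun v hv => U.s.T_V (U.h.ne_zero hciO) hα (v := v) hv
  have hVj := fun v hv => U.s.T_V (U.h.ne_zero hcjO) hβ (v := v) hv
  -- membership in `QS`
  have mem_QS : ∀ {x : W} {κ : Dual (ZMod 2) W}, x ∈ Om → Fn ρ x κ → κ ≠ 0 → (∀ v ∈ Dx z χ, κ v = 0) →
      x ∈ QS ρ Om (Dx z χ) := by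
    intro x κ hx hκ hκ0 hv
    refine ⟨hx, fun ψ hψ v hv' => ?_⟩
    by_cases h0 : ψ = 0
    · rw [h0]; rfl
    · rw [hs x hx ψ κ hψ hκ h0 hκ0]
      exact hv v hv'
  have qp : p ∈ QS ρ Om (Dx z χ) := mem_QS hp hχ hχ0 fun v hv => hv.2
  have qi : U.cc i p ∈ QS ρ Om (Dx z χ) := mem_QS hciO hα.fn hα.1 fun v hv => hVi v hv.1
  have qj : U.cc j p ∈ QS ρ Om (Dx z χ) := mem_QS hcjO hβ.fn hβ.1 fun v hv => hVj v hv.1
  have hαβ : ∀ w ∈ Submodule.span (ZMod 2) (QS ρ Om (Dx z χ)), α w = β w := by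
    intro w hw
    refine LinearMap.eqOn_span (s := QS ρ Om (Dx z χ)) (f := α) (g := β) ?_ hw
    intro q hq
    obtain ⟨ψ, hψ0, hψ⟩ := U.h.exists_fn hq.1
    change α q = β q
    rw [sym U.h hs hciO hq.1 hα.fn hα.1 hψ hψ0, sym U.h hs hcjO hq.1 hβ.fn hβ.1 hψ hψ0]
    exact hcc q hq ψ hψ
  have hdA : U.cc i p + U.cc j p ∈ Submodule.span (ZMod 2) (QS ρ Om (Dx z χ)) ⊓ perp ρ Om (Dx z χ) := by
    refine ⟨Submodule.add_mem _ (Submodule.subset_span qi) (Submodule.subset_span qj), ?_⟩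
    intro q hq ψ hψ
    rw [map_add, hcc q hq ψ hψ, z2_add_self]
  have hαj : α (U.cc j p) = 0 := by rw [← hcc _ qi α hα.fn, hα.2.1]
  have hαp : α p = 1 := by rw [sym U.h hs hciO hp hα.fn hα.1 hχ hχ0, hχi]
  have hβp : β p = 1 := by rw [sym U.h hs hcjO hp hβ.fn hβ.1 hχ hχ0, hχj]
  obtain ⟨bi, hbi, ebi⟩ := hα.2.2
  obtain ⟨bj, hbj, ebj⟩ := hβ.2.2
  obtain ⟨-, t, ht⟩ := id hχ
  have ht' : ∀ w, ρ t⁻¹ w = w + χ w • p := by
    intro w
    have h4 : ρ t (w + χ w • p) = w := by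
      rw [map_add, map_smul, ht, ht, hχ.1, zero_smul, add_zero, add_assoc, v_add_self, add_zero]
    rw [← h4, rinv, h4]
  have hg : ∀ w, ρ (t * (bi * bj) * t⁻¹) w = w + ((β w + χ w) • (U.cc j p + p) + (α w + χ w) • (U.cc i p + p)) := by
    intro w
    have e1 : ρ t (w + χ w • p) = w := by rw [← ht', rinv']
    rw [rmul, rmul, rmul, ht', ebj, map_add (ρ bi), map_smul (ρ bi), ebi, ebi, hαj, zero_smul, add_zero]
    rw [map_add (ρ t), map_add (ρ t), e1, map_smul (ρ t), map_smul (ρ t), ht, ht, hχi, hχj, one_smul, map_add,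
      map_add, map_smul, map_smul, hαp, hβp, smul_eq_mul, mul_one]
    abel
  have hDV : ∀ d ∈ Dx z χ, ρ (t * (bi * bj) * t⁻¹) d = d := by
    intro d hd
    have e1 : χ d = 0 := hd.2
    rw [hg, hVi d hd.1, hVj d hd.1, e1, add_zero, zero_smul, zero_smul, add_zero, add_zero]
  have z0D : ∑ k, z k ∈ Dx z χ :=
    ⟨Submodule.sum_mem _ fun k _ => U.s.z_mem k, U.s.fn_z0 (U.h.ne_zero hp) hχ⟩
  have h1 := U.s.sy (Dx z χ) inf_le_left z0D (Submodule.span (ZMod 2) (QS ρ Om (Dx z χ)))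
    (Submodule.span (ZMod 2) (QS ρ Om (Dx z χ)) ⊓ perp ρ Om (Dx z χ)) inf_le_left
    (fun g hg w hw => span_QS_inv U.h hg hw)
    (fun g hg w hw => ⟨span_QS_inv U.h hg hw.1, perp_inv U.h hg hw.2⟩) (t * (bi * bj) * t⁻¹) hDV
    (fun w => ?_) (fun w hw => ?_) (fun w hw => ?_)
  · obtain ⟨σ, hσ⟩ := U.s.perm _ h1
    have h2 : ∀ k, z k + χ (z k) • (U.cc i p + U.cc j p) = z (σ k) := by
      intro k
      rw [← hσ, hg, hVi _ (U.s.z_mem k), hVj _ (U.s.z_mem k), zero_add, ← smul_add]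
      congr 2
      calc U.cc i p + U.cc j p = U.cc j p + U.cc i p + 0 := by rw [add_zero, add_comm]
        _ = U.cc j p + U.cc i p + (p + p) := by rw [v_add_self]
        _ = _ := by abel
    have h3 := h2 i
    have h4 := h2 j
    rw [hi, one_smul] at h3
    rw [hj, one_smul] at h4
    have hd : U.cc i p + U.cc j p ≠ 0 := add_ne_zero_of_ne hne
    have e3 : U.cc i p + U.cc j p = z i + z (σ i) := by rw [← h3, self_add_add]
    have e4 : U.cc i p + U.cc j p = z j + z (σ j) := by rw [← h4, self_add_add]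
    have n3 : σ i ≠ i := by
      intro e
      rw [e, v_add_self] at e3
      exact hd e3
    have n4 : σ j ≠ j := by
      intro e
      rw [e, v_add_self] at e4
      exact hd e4
    rw [e3, two_sets U.s.li hij n3 n4 (e3.symm.trans e4)]
  · rw [hg, add_comm w, add_add_self]
    exact Submodule.add_mem _ (Submodule.smul_mem _ _ (Submodule.add_mem _ (Submodule.subset_span qj)
      (Submodule.subset_span qp))) (Submodule.smul_mem _ _ (Submodule.add_mem _ (Submodule.subset_span qi)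
      (Submodule.subset_span qp)))
  · rw [hg, add_comm w, add_add_self, hαβ w hw, ← smul_add]
    refine Submodule.smul_mem _ _ ?_
    have e5 : U.cc j p + p + (U.cc i p + p) = U.cc i p + U.cc j p := by
      calc U.cc j p + p + (U.cc i p + p) = U.cc i p + U.cc j p + (p + p) := by abel
        _ = _ := by rw [v_add_self, add_zero]
    rw [e5]
    exact hdA
  · have e6 : χ w = 0 := hw.2 p qp χ hχ
    have e7 : α w = 0 := hw.2 _ qi α hα.fn
    rw [hg, ← hαβ w hw.1, e6, e7, add_zero, zero_smul, zero_smul, add_zero, add_zero]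

end Cfsg.Agent.Omega.NO3S.SN2.TRV.Pair
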