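import Cfsg.Agent.Omega.NO3S.SN2.TRV.Const

/-!
# THEOREM TRV, small case: (1) and (NRC), i.e. `Uni`
-/

set_option autoImplicit false

namespace Cfsg.Agent.Omega.NO3S.SN2.TRV.SmallU

open Module Cfsg.Agent.Omega.TV
open Cfsg.Agent.Omega.TV.Sys (Near rad Big Clo Small)
open Cfsg.Agent.Omega.NO3S.SN2.TRV.Basic Cfsg.Agent.Omega.NO3S.SN2.TRV.Sums

variable {H : Type*} [Group H] {W : Type*} [AddCommGroup W] [Module (ZMod 2) W] [Finite W]
  {ι : Type*} [Fintype ι] [DecidableEq ι]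
  {ρ : H →* (W ≃ₗ[ZMod 2] W)} {z : ι → W} {Q : Subgroup H} {QI : ι → Subgroup H} {Om : Set W}

theorem ne_zero_of_one {ψ : Dual (ZMod 2) W} {x : W} (h : ψ x = 1) : ψ ≠ 0 := by
  rintro rfl
  exact zero_ne_one h

theorem sym_one (h : SysW ρ Om) (hs : Small ρ Om) {r t : W} (hr : r ∈ Om) (ht : t ∈ Om) {φ ψ : Dual (ZMod 2) W}
    (hφ : Fn ρ r φ) (hψ : Fn ρ t ψ) (hψ0 : ψ ≠ 0) (e : φ t = 1) : ψ r = 1 := by
  obtain ⟨κ, hκ, e'⟩ := h.symm hr ht ⟨φ, hφ, e⟩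
  rw [← hs t ht κ ψ hκ hψ (ne_zero_of_one e') hψ0]
  exact e'

/-- The form is symmetric. -/
theorem sym (h : SysW ρ Om) (hs : Small ρ Om) {r t : W} (hr : r ∈ Om) (ht : t ∈ Om) {φ ψ : Dual (ZMod 2) W}
    (hφ : Fn ρ r φ) (hφ0 : φ ≠ 0) (hψ : Fn ρ t ψ) (hψ0 : ψ ≠ 0) : φ t = ψ r := by
  rcases z2 (φ t) with e | e
  · rcases z2 (ψ r) with e' | e'
    · rw [e, e']
    · rw [sym_one h hs ht hr hψ hφ hφ0 e', e']
  · rw [e, sym_one h hs hr ht hφ hψ hψ0 e]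

theorem u1 (s : Sit ρ z Q QI) (h : SysW ρ Om) (hs : Small ρ Om) {i : ι} {c : W} {φ : Dual (ZMod 2) W}
    (hT : T ρ QI i c φ) (hc : c ∈ Om) {p : W} (hp : p ∈ Om) {ψ : Dual (ZMod 2) W} (hψ : Fn ρ p ψ) (h0 : ψ ≠ 0)
    (hn : Near ρ Om c p) : ψ (z i) = ψ c := by
  have key : ∀ {x : W}, x ∈ Om → ∀ {κ : Dual (ZMod 2) W}, Fn ρ x κ → κ ≠ 0 → κ (z i) = 0 → κ c = 0 := by
    intro x hx κ hκ hκ0 e
    refine z2_ne_one fun e' => ?_
    exact s.not_three hT hκ e e' (by rw [sym h hs hc hx hT.fn hT.1 hκ hκ0, e'])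
  rcases z2 (ψ (z i)) with e | e
  · rw [e, key hp hψ h0 e]
  rcases z2 (ψ c) with e' | e'
  · exfalso
    obtain ⟨v, hv, ⟨α, hα, a1⟩, ⟨κ, hκ, k1⟩⟩ := hn
    have hκ0 : κ ≠ 0 := ne_zero_of_one k1
    have hα0 : α ≠ 0 := ne_zero_of_one a1
    have e1 : κ c = 1 := by rw [← sym h hs hc hv hα hα0 hκ hκ0, a1]
    have e2 : κ (z i) = 1 := z2_ne_zero fun e3 => by
      rw [key hv hκ hκ0 e3] at e1
      exact zero_ne_one e1
    have e3 : ψ v = 1 := by rw [sym h hs hp hv hψ h0 hκ hκ0, k1]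
    have hm : p + v ∈ Om := h.add_mem hp ⟨κ, hκ, k1⟩
    have f1 := Fn.cc hψ hκ
    rw [k1, e3, one_smul, one_smul] at f1
    have e4 : (ψ + κ) c = 1 := by rw [LinearMap.add_apply, e', e1, zero_add]
    have e5 := key hm f1 (ne_zero_of_one e4) (by rw [LinearMap.add_apply, e, e2]; exact z2_add_self 1)
    rw [e4] at e5
    exact one_ne_zero e5
  · rw [e, e']

theorem span_inv (h : SysW ρ Om) (g : H) {w : W} (hw : w ∈ Submodule.span (ZMod 2) Om) :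
    ρ g w ∈ Submodule.span (ZMod 2) Om := by
  have h2 : Submodule.span (ZMod 2) Om ≤ (Submodule.span (ZMod 2) Om).comap ((ρ g : W ≃ₗ[ZMod 2] W).toLinearMap) :=
    Submodule.span_le.2 fun t ht => Submodule.subset_span (h.inv g t ht)
  exact h2 hw

/-- (NRC) -/
theorem sep (s : Sit ρ z Q QI) (h : SysW ρ Om) (hs : Small ρ Om) (x y : W) (hx : x = 0 ∨ x ∈ Om)
    (hy : y = 0 ∨ y ∈ Om) (he : ∀ q ∈ Om, ∀ ψ, Fn ρ q ψ → ψ x = ψ y) : x = y := by
  have one : ∀ {t : W}, t ∈ Om → ∃ q ∈ Om, ∃ ψ, Fn ρ q ψ ∧ ψ t = 1 := by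
    intro t ht
    obtain ⟨q, hq, ha⟩ := h.exists_adj ht
    obtain ⟨ψ, hψ, e⟩ := h.symm ht hq ha
    exact ⟨q, hq, ψ, hψ, e⟩
  rcases hx with rfl | hx <;> rcases hy with rfl | hy
  · rfl
  · obtain ⟨q, hq, ψ, hψ, e⟩ := one hy
    have := he q hq ψ hψ
    rw [map_zero, e] at this
    exact absurd this zero_ne_one
  · obtain ⟨q, hq, ψ, hψ, e⟩ := one hx
    have := he q hq ψ hψ
    rw [map_zero, e] at this
    exact absurd this one_ne_zero
  obtain ⟨α, hα0, hα⟩ := h.exists_fn hx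
  obtain ⟨β, hβ0, hβ⟩ := h.exists_fn hy
  have e1 : ∀ w ∈ Submodule.span (ZMod 2) Om, α w = β w := by
    intro w hw
    refine LinearMap.eqOn_span (s := Om) (f := α) (g := β) ?_ hw
    intro q hq
    obtain ⟨ψ, hψ0, hψ⟩ := h.exists_fn hq
    change α q = β q
    rw [sym h hs hx hq hα hα0 hψ hψ0, sym h hs hy hq hβ hβ0 hψ hψ0]
    exact he q hq ψ hψ
  have e2 : α y = 0 := by rw [← he x hx α hα, hα.1]
  obtain ⟨-, a, ha⟩ := id hα
  obtain ⟨-, b, hb⟩ := id hβ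
  have hg : ∀ w, ρ (a * b) w = w + (β w • y + α w • x) := by
    intro w
    rw [rmul, hb, map_add, map_smul, ha, ha, e2, zero_smul, add_zero]
    abel
  have hxy : x + y ∈ Submodule.span (ZMod 2) Om ⊓ rad ρ Om := by
    refine ⟨Submodule.add_mem _ (Submodule.subset_span hx) (Submodule.subset_span hy), ?_⟩
    intro r hr φ hφ
    rw [map_add, he r hr φ hφ, z2_add_self]
  have h1 := s.chain (Submodule.span (ZMod 2) Om) (Submodule.span (ZMod 2) Om ⊓ rad ρ Om) inf_le_left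
    (fun g w hw => span_inv h g hw) (fun g w hw => ⟨span_inv h g hw.1, h.rad_inv g hw.2⟩) (a * b)
    (fun w => ?_) (fun w hw => ?_) (fun w hw => ?_)
  · obtain ⟨w, -, hw⟩ := h.exists_one hx hα hα0
    have h2 := h1 w
    rw [hg, hw, one_smul] at h2
    have h3 : β w • y + x = 0 := by simpa using h2
    rcases z2 (β w) with e3 | e3
    · rw [e3, zero_smul, zero_add] at h3
      exact absurd h3 (h.ne_zero hx)
    · rw [e3, one_smul] at h3
      exact (v_eq_of_add h3).symm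
  · rw [hg, add_comm w, add_add_self]
    exact Submodule.add_mem _ (Submodule.smul_mem _ _ (Submodule.subset_span hy))
      (Submodule.smul_mem _ _ (Submodule.subset_span hx))
  · rw [hg, add_comm w, add_add_self, e1 w hw, ← smul_add, add_comm y]
    exact Submodule.smul_mem _ _ hxy
  · rw [hg, ← e1 w hw.1, hw.2 x hx α hα, zero_smul, zero_smul, add_zero, add_zero]

theorem uni (s : Sit ρ z Q QI) (h : SysW ρ Om) (hs : Small ρ Om) (ex : ∃ i, (Cs ρ QI Om i).Nonempty) :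
    Uni ρ z Q QI Om where
  s := s
  h := h
  ex := ex
  u1 := fun _ _ _ hT hc _ hp _ hψ h0 hn => u1 s h hs hT hc hp hψ h0 hn
  sep := fun x y hx hy he => sep s h hs x y hx hy he

end Cfsg.Agent.Omega.NO3S.SN2.TRV.SmallU
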