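import Cfsg.Agent.Omega.NO3S.SN2.TRV.Basic

/-!
# THEOREM TRV: the sums `s i`, the components `cc i p`

`Uni` : the facts which hold both in the small and in the big case of THEOREM TV.
-/

set_option autoImplicit false

namespace Cfsg.Agent.Omega.NO3S.SN2.TRV.Sums

open Module Cfsg.Agent.Omega.TV
open Cfsg.Agent.Omega.TV.Sys (Near rad Big Clo Small)
open Cfsg.Agent.Omega.NO3S.SN2.TRV.Basic

variable {H : Type*} [Group H] {W : Type*} [AddCommGroup W] [Module (ZMod 2) W]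
  {ι : Type*} [Fintype ι] [DecidableEq ι]
  {ρ : H →* (W ≃ₗ[ZMod 2] W)} {z : ι → W} {Q : Subgroup H} {QI : ι → Subgroup H} {Om : Set W}

/-- The centres in `Om` of the transvections in `QI i`. -/
def Cs (ρ : H →* (W ≃ₗ[ZMod 2] W)) (QI : ι → Subgroup H) (Om : Set W) (i : ι) : Set W :=
  {c | c ∈ Om ∧ ∃ φ, T ρ QI i c φ}

/-- (U1), (Sep) -/
structure Uni (ρ : H →* (W ≃ₗ[ZMod 2] W)) (z : ι → W) (Q : Subgroup H) (QI : ι → Subgroup H) (Om : Set W) :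
    Prop where
  s : Sit ρ z Q QI
  h : SysW ρ Om
  ex : ∃ i, (Cs ρ QI Om i).Nonempty
  u1 : ∀ i c φ, T ρ QI i c φ → c ∈ Om → ∀ p ∈ Om, ∀ ψ, Fn ρ p ψ → ψ ≠ 0 → Near ρ Om c p → ψ (z i) = ψ c
  sep : ∀ x y, (x = 0 ∨ x ∈ Om) → (y = 0 ∨ y ∈ Om) → (∀ q ∈ Om, ∀ ψ, Fn ρ q ψ → ψ x = ψ y) → x = y

theorem swap_coeff (hli : LinearIndependent (ZMod 2) z) {a : ι → ZMod 2} {g : H} {k l : ι}
    (hg : ∀ i, ρ g (z i) = z (Equiv.swap k l i)) (hw : ρ g (∑ i, a i • z i) = ∑ i, a i • z i) : a k = a l := by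
  have h1 : ρ g (∑ i, a i • z i) = ∑ i, a (Equiv.swap k l i) • z i := by
    rw [map_sum]
    rw [← Equiv.sum_comp (Equiv.swap k l) (fun i => a (Equiv.swap k l i) • z i)]
    refine Finset.sum_congr rfl fun i _ => ?_
    rw [map_smul, hg, Equiv.swap_apply_self]
  rw [h1] at hw
  have h2 : ∑ i, (a (Equiv.swap k l i) - a i) • z i = 0 := by
    simp only [sub_smul, Finset.sum_sub_distrib]
    rw [hw, sub_self]
  have h3 := (Fintype.linearIndependent_iff.1 hli) _ h2 l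
  rw [Equiv.swap_apply_right] at h3
  exact sub_eq_zero.1 h3

theorem exists_coeff {w : W} (hw : w ∈ Submodule.span (ZMod 2) (Set.range z)) : ∃ a : ι → ZMod 2, ∑ i, a i • z i = w :=
  (Submodule.mem_span_range_iff_exists_fun _).1 hw

/-- Sums over invariant sets. -/
theorem sum_image [Finite W] {A B : Set W} {g : H} (h1 : ∀ a ∈ A, ρ g a ∈ B) (h2 : ∀ b ∈ B, ρ g⁻¹ b ∈ A) :
    ρ g (∑ a ∈ (Set.toFinite A).toFinset, a) = ∑ b ∈ (Set.toFinite B).toFinset, b := by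
  rw [map_sum]
  refine Finset.sum_nbij' (fun a => ρ g a) (fun b => ρ g⁻¹ b) ?_ ?_ ?_ ?_ ?_
  · intro a ha
    simp only [Set.Finite.mem_toFinset] at ha ⊢
    exact h1 a ha
  · intro a ha
    simp only [Set.Finite.mem_toFinset] at ha ⊢
    exact h2 a ha
  · intro a _
    exact rinv ρ g a
  · intro b _
    exact rinv' ρ g b
  · intro a _
    rfl

namespace Uni

variable (U : Uni ρ z Q QI Om)

include U

theorem cs_conj {i j : ι} {c : W} (hc : c ∈ Cs ρ QI Om i) {g : H} (hg : ρ g (z i) = z j) : ρ g c ∈ Cs ρ QI Om j := by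
  obtain ⟨h1, φ, h2⟩ := hc
  exact ⟨U.h.inv g c h1, _, U.s.T_conj h2 hg⟩

theorem cs_conj' {i j : ι} {c : W} (hc : c ∈ Cs ρ QI Om j) {g : H} (hg : ρ g (z i) = z j) :
    ρ g⁻¹ c ∈ Cs ρ QI Om i := U.cs_conj hc (by rw [← hg, rinv])

theorem cs_nonempty (j : ι) : (Cs ρ QI Om j).Nonempty := by
  obtain ⟨i, c, hc⟩ := U.ex
  obtain ⟨g, hg⟩ := U.s.ind (Equiv.swap i j)
  have h1 := hg i
  rw [Equiv.swap_apply_left] at h1
  exact ⟨_, U.cs_conj hc h1⟩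

variable [Finite W]

/-- (U2) -/
theorem cs_unique {i : ι} {c c' : W} (hc : c ∈ Cs ρ QI Om i) (hc' : c' ∈ Cs ρ QI Om i) (hn : Near ρ Om c c') :
    c = c' := by
  obtain ⟨h1, φ, h2⟩ := hc
  obtain ⟨h1', φ', h2'⟩ := hc'
  refine U.sep c c' (Or.inr h1) (Or.inr h1') fun q hq ψ hψ => ?_
  by_cases h0 : ψ = 0
  · rw [h0]; rfl
  by_cases hnq : Near ρ Om c q
  · rw [← U.u1 i c φ h2 h1 q hq ψ hψ h0 hnq,
      ← U.u1 i c' φ' h2' h1' q hq ψ hψ h0 (U.h.near_trans h1' h1 hq (U.h.near_symm h1 h1' hn) hnq)]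
  · have hnq' : ¬ Near ρ Om c' q := fun e => hnq (U.h.near_trans h1 h1' hq hn e)
    rw [z2_ne_one fun e => hnq (U.h.near_symm hq h1 (U.h.near_of_adj hq h1 ⟨ψ, hψ, e⟩)),
      z2_ne_one fun e => hnq' (U.h.near_symm hq h1' (U.h.near_of_adj hq h1' ⟨ψ, hψ, e⟩))]

theorem not_near_zero {p q : W} (hp : p ∈ Om) (hq : q ∈ Om) {ψ : Dual (ZMod 2) W} (hψ : Fn ρ q ψ)
    (hn : ¬ Near ρ Om p q) : ψ p = 0 :=
  z2_ne_one fun e => hn (U.h.near_symm hq hp (U.h.near_of_adj hq hp ⟨ψ, hψ, e⟩))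

/-- The sum of the centres. -/
noncomputable def S (_ : Uni ρ z Q QI Om) (i : ι) : W := ∑ c ∈ (Set.toFinite (Cs ρ QI Om i)).toFinset, c

theorem psi_S {i : ι} {c p : W} (hc : c ∈ Cs ρ QI Om i) (hp : p ∈ Om) (hn : Near ρ Om c p) {ψ : Dual (ZMod 2) W}
    (hψ : Fn ρ p ψ) : ψ (U.S i) = ψ c := by
  rw [S, map_sum]
  refine Finset.sum_eq_single_of_mem c ((Set.Finite.mem_toFinset _).2 hc) fun c' hc' hne => ?_
  have h1 : c' ∈ Cs ρ QI Om i := (Set.Finite.mem_toFinset _).1 hc'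
  refine U.not_near_zero h1.1 hp hψ fun hn' => hne ?_
  exact U.cs_unique h1 hc (U.h.near_trans h1.1 hp hc.1 hn' (U.h.near_symm hc.1 hp hn))

theorem psi_S0 {i : ι} {p : W} (hp : p ∈ Om) (hn : ∀ c ∈ Cs ρ QI Om i, ¬ Near ρ Om c p) {ψ : Dual (ZMod 2) W}
    (hψ : Fn ρ p ψ) : ψ (U.S i) = 0 := by
  rw [S, map_sum]
  refine Finset.sum_eq_zero fun c' hc' => ?_
  have h1 : c' ∈ Cs ρ QI Om i := (Set.Finite.mem_toFinset _).1 hc'
  exact U.not_near_zero h1.1 hp hψ (hn c' h1)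

theorem S_conj {i j : ι} {g : H} (hg : ρ g (z i) = z j) : ρ g (U.S i) = U.S j :=
  sum_image (fun _ ha => U.cs_conj ha hg) (fun _ hb => U.cs_conj' hb hg)

theorem S_mem (i : ι) : U.S i ∈ Submodule.span (ZMod 2) (Set.range z) :=
  U.s.fixV _ fun q hq => U.S_conj (U.s.Qz q hq i)

/-- (2) `s_i ∈ {z_i, z_i + z_0}` -/
theorem S_eq (i : ι) : ∃ α : ZMod 2, U.S i = z i + α • ∑ j, z j := by
  classical
  obtain ⟨a, ha⟩ := exists_coeff (U.S_mem i)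
  have h1 : ∀ k l, k ≠ i → l ≠ i → a k = a l := by
    intro k l hk hl
    obtain ⟨g, hg⟩ := U.s.ind (Equiv.swap k l)
    refine swap_coeff U.s.li hg ?_
    rw [ha]
    refine U.S_conj ?_
    rw [hg, Equiv.swap_apply_of_ne_of_ne (Ne.symm hk) (Ne.symm hl)]
  obtain ⟨k, hk⟩ : ∃ k, k ≠ i := by
    have : 1 < Fintype.card ι := lt_of_lt_of_le (by norm_num) U.s.card
    exact Fintype.exists_ne_of_one_lt_card this i
  have h2 : U.S i = (a i + a k) • z i + a k • ∑ j, z j := by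
    rw [← ha, Finset.smul_sum, ← Finset.add_sum_erase _ (fun j => a j • z j) (Finset.mem_univ i),
      ← Finset.add_sum_erase _ (fun j => a k • z j) (Finset.mem_univ i), add_smul]
    have h3 : ∑ j ∈ Finset.univ.erase i, a j • z j = ∑ j ∈ Finset.univ.erase i, a k • z j := by
      refine Finset.sum_congr rfl fun j hj => ?_
      rw [h1 j k (Finset.ne_of_mem_erase hj) hk]
    rw [h3]
    calc a i • z i + ∑ j ∈ Finset.univ.erase i, a k • z j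
        = a i • z i + (a k • z i + a k • z i) + ∑ j ∈ Finset.univ.erase i, a k • z j := by
          rw [v_add_self, add_zero]
      _ = _ := by abel
  obtain ⟨c, hc⟩ := U.cs_nonempty i
  obtain ⟨p, hp, hadj⟩ := U.h.exists_adj hc.1
  obtain ⟨ψ, hψ, e⟩ := U.h.symm hc.1 hp hadj
  have hn : Near ρ Om c p := U.h.near_of_adj hc.1 hp hadj
  have h4 := U.psi_S hc hp hn hψ
  have hψ0 : ψ ≠ 0 := by
    rintro rfl
    exact zero_ne_one e
  obtain ⟨hcO, φ, hT⟩ := hc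
  have h5 := U.u1 i c φ hT hcO p hp ψ hψ hψ0 hn
  rw [h2, map_add, map_smul, map_smul, U.s.fn_z0 (U.h.ne_zero hp) hψ, smul_zero, add_zero, h5, e] at h4
  refine ⟨a k, ?_⟩
  rw [h2]
  have h6 : a i + a k = 1 := by simpa using h4
  rw [h6, one_smul]

theorem psi_z {i : ι} {p : W} (hp : p ∈ Om) {ψ : Dual (ZMod 2) W} (hψ : Fn ρ p ψ) : ψ (U.S i) = ψ (z i) := by
  obtain ⟨α, h⟩ := U.S_eq i
  rw [h, map_add, map_smul, U.s.fn_z0 (U.h.ne_zero hp) hψ, smul_zero, add_zero]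

open Classical in
/-- The component of `z i` in the class of `p`. -/
noncomputable def cc (_ : Uni ρ z Q QI Om) (i : ι) (p : W) : W :=
  if h : ∃ c, c ∈ Cs ρ QI Om i ∧ Near ρ Om c p then h.choose else 0

theorem cc_cases (i : ι) (p : W) : (U.cc i p ∈ Cs ρ QI Om i ∧ Near ρ Om (U.cc i p) p) ∨
    (U.cc i p = 0 ∧ ∀ c ∈ Cs ρ QI Om i, ¬ Near ρ Om c p) := by
  classical
  by_cases h : ∃ c, c ∈ Cs ρ QI Om i ∧ Near ρ Om c p
  · left
    rw [cc, dif_pos h]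
    exact h.choose_spec
  · right
    refine ⟨by rw [cc, dif_neg h], fun c hc hn => h ⟨c, hc, hn⟩⟩

theorem cc_or (i : ι) (p : W) : U.cc i p = 0 ∨ U.cc i p ∈ Om := by
  rcases U.cc_cases i p with ⟨h, -⟩ | ⟨h, -⟩
  · exact Or.inr h.1
  · exact Or.inl h

theorem cc_eq {i : ι} {c p : W} (hp : p ∈ Om) (hc : c ∈ Cs ρ QI Om i) (hn : Near ρ Om c p) : U.cc i p = c := by
  rcases U.cc_cases i p with ⟨h, h'⟩ | ⟨-, h⟩
  · exact U.cs_unique h hc (U.h.near_trans h.1 hp hc.1 h' (U.h.near_symm hc.1 hp hn))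
  · exact absurd hn (h c hc)

theorem cc_near {i : ι} {p q : W} (hp : p ∈ Om) (hq : q ∈ Om) (hn : Near ρ Om p q) : U.cc i p = U.cc i q := by
  rcases U.cc_cases i q with ⟨h, h'⟩ | ⟨h0, h⟩
  · exact U.cc_eq hp h (U.h.near_trans h.1 hq hp h' (U.h.near_symm hp hq hn))
  · rw [h0]
    rcases U.cc_cases i p with ⟨k, k'⟩ | ⟨k0, -⟩
    · exact absurd (U.h.near_trans k.1 hp hq k' hn) (h _ k)
    · exact k0

theorem psi_cc {i : ι} {p q : W} (hp : p ∈ Om) (hq : q ∈ Om) (hn : Near ρ Om p q) {ψ : Dual (ZMod 2) W}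
    (hψ : Fn ρ q ψ) : ψ (U.cc i p) = ψ (z i) := by
  rw [← U.psi_z hq hψ]
  rcases U.cc_cases i p with ⟨h, h'⟩ | ⟨h0, h⟩
  · exact (U.psi_S h hq (U.h.near_trans h.1 hp hq h' hn) hψ).symm
  · rw [h0, map_zero, U.psi_S0 hq (fun c hc hn' => h c hc
      (U.h.near_trans hc.1 hq hp hn' (U.h.near_symm hp hq hn))) hψ]

theorem psi_cc0 {i : ι} {p q : W} (hp : p ∈ Om) (hq : q ∈ Om) (hn : ¬ Near ρ Om p q) {ψ : Dual (ZMod 2) W}
    (hψ : Fn ρ q ψ) : ψ (U.cc i p) = 0 := by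
  rcases U.cc_cases i p with ⟨h, h'⟩ | ⟨h0, h⟩
  · exact U.not_near_zero h.1 hq hψ fun e => hn (U.h.near_trans hp h.1 hq (U.h.near_symm h.1 hp h') e)
  · rw [h0, map_zero]

theorem cc_conj {i j : ι} {p : W} (hp : p ∈ Om) {g : H} (hg : ρ g (z i) = z j) :
    U.cc j (ρ g p) = ρ g (U.cc i p) := by
  rcases U.cc_cases i p with ⟨h, h'⟩ | ⟨h0, h⟩
  · exact U.cc_eq (U.h.inv g p hp) (U.cs_conj h hg) (SysW.near_conj U.h h' g)
  · rw [h0, map_zero]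
    rcases U.cc_cases j (ρ g p) with ⟨k, k'⟩ | ⟨k0, -⟩
    · exfalso
      have h1 := SysW.near_conj U.h k' g⁻¹
      rw [rinv] at h1
      exact h _ (U.cs_conj' k hg) h1
    · exact k0

theorem cc_ne {i : ι} {p : W} (hp : p ∈ Om) {ψ : Dual (ZMod 2) W} (hψ : Fn ρ p ψ) (h : ψ (z i) = 1) :
    U.cc i p ≠ 0 := by
  intro e
  have h1 := U.psi_cc (i := i) hp hp (U.h.near_refl hp) hψ
  rw [e, map_zero, h] at h1
  exact zero_ne_one h1

end Uni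

end Cfsg.Agent.Omega.NO3S.SN2.TRV.Sums
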